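import Mathlib.Algebra.Polynomial.Derivative
import Mathlib.Algebra.Polynomial.AlgebraMap
import Mathlib.Algebra.Algebra.Rat
import Mathlib.RingTheory.Coprime.Lemmas
import Mathlib.Tactic

/-!
# The truncated logarithm of a power

`log_pow`: in a commutative `ℚ`-algebra, for `x ^ N = 0`, `log ((1 + x) ^ j) = j log (1 + x)` for the logarithm truncated
after the term of degree `N`.
-/

set_option autoImplicit false
universe u
open Finset Polynomial

namespace K646.LogPow

/-- The truncated logarithm `∑_{n < N} (-1)^n X^(n+1) / (n+1)`. -/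
noncomputable def L (N : ℕ) : ℚ[X] := ∑ n ∈ range N, C ((-1 : ℚ) ^ n / ((n : ℚ) + 1)) * X ^ (n + 1)

theorem derivative_L (N : ℕ) : derivative (L N) = ∑ n ∈ range N, (-X : ℚ[X]) ^ n := by
  rw [L, derivative_sum]
  refine sum_congr rfl fun n _ => ?_
  rw [derivative_C_mul, derivative_X_pow, neg_pow (X : ℚ[X]) n, ← mul_assoc, ← C_mul]
  have h : ((-1 : ℚ) ^ n / ((n : ℚ) + 1)) * ((n + 1 : ℕ) : ℚ) = (-1) ^ n := by
    have : ((n : ℚ) + 1) ≠ 0 := by positivity
    push_cast
    field_simp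
  rw [h]
  simp

theorem mul_derivative_L (N : ℕ) : (1 + X) * derivative (L N) = 1 - (-X : ℚ[X]) ^ N := by
  rw [derivative_L]
  have h := mul_neg_geom_sum (-X : ℚ[X]) N
  rw [sub_neg_eq_add] at h
  exact h

theorem dvd (N j : ℕ) : X ^ N ∣ (L N).comp ((1 + X) ^ j - 1) - (j : ℚ[X]) * L N := by
  set Y : ℚ[X] := (1 + X) ^ j - 1 with hY
  set p : ℚ[X] := (L N).comp Y - (j : ℚ[X]) * L N with hp
  have hYd : (1 + X) * derivative Y = (j : ℚ[X]) * (1 + Y) := by
    rw [hY, derivative_sub, derivative_one, sub_zero]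
    rcases j with _ | j
    · simp
    · rw [derivative_pow_succ]
      simp only [derivative_add, derivative_one, derivative_X, zero_add]
      push_cast
      simp only [map_add, map_natCast, map_one]
      ring
  have hXY : X ∣ Y := by
    rw [X_dvd_iff, hY, coeff_zero_eq_eval_zero]
    simp
  have h0 : (L N).coeff 0 = 0 := by
    rw [L, coeff_zero_eq_eval_zero, eval_finsetSum]
    exact sum_eq_zero fun n _ => by simp
  have h1 : (1 + X) * derivative p = (j : ℚ[X]) * ((-X) ^ N - (-Y) ^ N) := by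
    rw [hp, derivative_sub, derivative_comp]
    have h2 : derivative ((j : ℚ[X]) * L N) = (j : ℚ[X]) * derivative (L N) := by
      rw [derivative_mul]
      simp
    have h3 : (1 + Y) * (derivative (L N)).comp Y = 1 - (-Y) ^ N := by
      have h4 := congrArg (fun q : ℚ[X] => q.comp Y) (mul_derivative_L N)
      simpa using h4
    rw [h2, mul_sub]
    calc (1 + X) * (derivative Y * (derivative (L N)).comp Y) - (1 + X) * ((j : ℚ[X]) * derivative (L N))
        = ((1 + X) * derivative Y) * (derivative (L N)).comp Y - (j : ℚ[X]) * ((1 + X) * derivative (L N)) := by ring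
      _ = (j : ℚ[X]) * ((1 + Y) * (derivative (L N)).comp Y) - (j : ℚ[X]) * ((1 + X) * derivative (L N)) := by
          rw [hYd]; ring
      _ = (j : ℚ[X]) * ((-X) ^ N - (-Y) ^ N) := by rw [h3, mul_derivative_L]; ring
  have h5 : X ^ N ∣ (1 + X) * derivative p := by
    rw [h1]
    refine Dvd.dvd.mul_left (dvd_sub ?_ ?_) _
    · rw [neg_pow]; exact Dvd.intro_left _ rfl
    · rw [neg_pow]; exact Dvd.dvd.mul_left (pow_dvd_pow_of_dvd hXY N) _
  have h6 : IsCoprime (X ^ N) ((1 : ℚ[X]) + X) := by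
    refine IsCoprime.pow_left ⟨-1, 1, by ring⟩
  have h7 : X ^ N ∣ derivative p := h6.dvd_of_dvd_mul_left h5
  rw [X_pow_dvd_iff] at h7 ⊢
  intro m hm
  rcases m with _ | m
  · rw [hp, coeff_sub, coeff_zero_eq_eval_zero, eval_comp]
    have h8 : Y.eval 0 = 0 := by rw [hY]; simp
    rw [h8, ← coeff_zero_eq_eval_zero, h0, mul_coeff_zero, h0]
    simp
  · have h9 := h7 m (by omega)
    rw [coeff_derivative] at h9
    have h10 : ((m : ℚ) + 1) ≠ 0 := by positivity
    exact (mul_eq_zero.1 h9).resolve_right h10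

/-- **The truncated logarithm of a power.** -/
theorem log_pow {R : Type u} [CommRing R] [Algebra ℚ R] (x : R) (N j : ℕ) (hx : x ^ N = 0) :
    ∑ n ∈ range N, ((-1 : ℚ) ^ n / ((n : ℚ) + 1)) • ((1 + x) ^ j - 1) ^ (n + 1) =
      (j : ℚ) • ∑ n ∈ range N, ((-1 : ℚ) ^ n / ((n : ℚ) + 1)) • x ^ (n + 1) := by
  obtain ⟨q, hq⟩ := dvd N j
  have h1 := congrArg (aeval x) hq
  rw [map_mul, map_pow, aeval_X, hx, zero_mul, map_sub, sub_eq_zero, map_mul, aeval_comp] at h1
  have h2 : ∀ y : R, aeval y (L N) = ∑ n ∈ range N, ((-1 : ℚ) ^ n / ((n : ℚ) + 1)) • y ^ (n + 1) := by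
    intro y
    rw [L, map_sum]
    refine sum_congr rfl fun n _ => ?_
    rw [map_mul, aeval_C, map_pow, aeval_X, Algebra.smul_def]
  rw [h2, h2] at h1
  have h3 : aeval x ((1 + X) ^ j - 1 : ℚ[X]) = (1 + x) ^ j - 1 := by simp
  rw [h3] at h1
  rw [h1, map_natCast, ← nsmul_eq_mul, ← Nat.cast_smul_eq_nsmul ℚ]

end K646.LogPow
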